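import Cfsg.Agent.Lib.CosetEnum.Orbit
import Mathlib.GroupTheory.GroupAction.Basic

/-!
# Point stabilisers in a coded action: indices and a block criterion from part of a stabiliser
-/

set_option autoImplicit false

namespace CfsgLib.G2FourJTwo

open CfsgLib.CosetEnum

variable {G : Type*} [Group G] {n : ℕ}

/-- A subgroup between the stabiliser of `b` in `K` and `K` is one of the two, when no union of orbits of a
subgroup of the stabiliser has a possible block size. -/
theorem eq_or_of_le_sub (π : G →* Equiv.Perm (Fin n)) (K H H₀ M : Subgroup G) (h₀ : H₀ ≤ H) (hHM : H ≤ M) (hMK : M ≤ K) (b : Fin n)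
    (hfix : ∀ h ∈ H, π h b = b) (hstab : ∀ z ∈ K, π z b = b → z ∈ H) (m : ℕ)
    (hidx : H.relIndex K = m) (T : List Tr) (hT : Realised π H₀ T) (hgen : Generated π H₀ T)
    (lab par root : Tr) (hrows : ∀ k < n, orbitRowOK T lab par root n k = true) (sizes : List ℕ)
    (hb0 : lab.get 20 b = 0) (hin : ∀ z ∈ K, lab.get 20 (π z b : Fin n) < sizes.length)
    (hclasses : classesOK lab root n sizes = true) (hblocks : noBlocks sizes m = true) : M = H ∨ M = K := by
  classical
  set B : Finset (Fin n) := Finset.univ.filter fun k => ∃ z ∈ M, π z b = k with hB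
  have hcl : ∀ c < sizes.length, root.get 20 c < n ∧ lab.get 20 (root.get 20 c) = c ∧
      countLab lab c n = sizes.getD c 0 := by
    intro c hc'
    have h := allFrom_spec _ _ _ hclasses c (Nat.zero_le _) (by omega)
    simp only [Bool.and_eq_true] at h
    exact ⟨Nat.le_of_ble_eq_true h.1.1, Nat.eq_of_beq_eq_true h.1.2, Nat.eq_of_beq_eq_true h.2⟩
  have hBlab : ∀ k ∈ B, lab.get 20 (k : Fin n) < sizes.length := by
    intro k hk
    simp only [hB, Finset.mem_filter, Finset.mem_univ, true_and] at hk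
    obtain ⟨z, hz, rfl⟩ := hk
    exact hin z (hMK hz)
  have horb : ∀ k k' : Fin n, lab.get 20 k = lab.get 20 k' → k ∈ B → k' ∈ B := by
    intro k k' hkk hk
    have hlt := hBlab k hk
    have heq := orbit_class π H₀ T hT hgen lab par root hrows ⟨_, (hcl _ hlt).1⟩ (lab.get 20 k)
      (by simp [(hcl _ hlt).2.1]) (by simp)
    obtain ⟨w₁, hw₁, he₁⟩ := (Set.ext_iff.mp heq k).mpr (rfl : lab.get 20 (k : Fin n) = _)
    obtain ⟨w₂, hw₂, he₂⟩ := (Set.ext_iff.mp heq k').mpr hkk.symm
    simp only [hB, Finset.mem_filter, Finset.mem_univ, true_and] at hk ⊢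
    obtain ⟨z, hz, hzk⟩ := hk
    refine ⟨w₂ * w₁⁻¹ * z, M.mul_mem (M.mul_mem (hHM (h₀ hw₂)) (M.inv_mem (hHM (h₀ hw₁)))) hz, ?_⟩
    rw [map_mul, map_mul, Equiv.Perm.mul_apply, Equiv.Perm.mul_apply, hzk, map_inv]
    rw [show (π w₁)⁻¹ k = ⟨_, (hcl _ hlt).1⟩ by rw [Equiv.Perm.inv_def, Equiv.symm_apply_eq, he₁], he₂]
  have hcard : B.card = H.relIndex M := by
    have h1 : H.relIndex M = Nat.card (M ⧸ H.subgroupOf M) := rfl
    rw [h1, ← Nat.card_eq_finsetCard]
    refine (Nat.card_congr (Equiv.ofBijective (fun q : M ⧸ H.subgroupOf M =>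
      Quotient.liftOn q (fun z => (⟨π (z : G) b, by
          simp only [hB, Finset.mem_filter, Finset.mem_univ, true_and]; exact ⟨z, z.2, rfl⟩⟩ : B))
        (fun a a' hab => ?_)) ⟨?_, ?_⟩)).symm
    · have hab : a⁻¹ * a' ∈ H.subgroupOf M := QuotientGroup.leftRel_apply.mp hab
      refine Subtype.ext ?_
      have := hfix _ (Subgroup.mem_subgroupOf.mp hab)
      rw [Subgroup.coe_mul, Subgroup.coe_inv, map_mul, Equiv.Perm.mul_apply, map_inv, Equiv.Perm.inv_def,
        Equiv.symm_apply_eq] at this
      exact this.symm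
    · intro p q
      induction p using QuotientGroup.induction_on with
      | H a =>
        induction q using QuotientGroup.induction_on with
        | H a' =>
          intro h
          refine QuotientGroup.eq.mpr (Subgroup.mem_subgroupOf.mpr (hstab _ (K.mul_mem (K.inv_mem (hMK a.2)) (hMK a'.2)) ?_))
          have h' : π (a : G) b = π (a' : G) b := congrArg Subtype.val h
          show π ((a : G)⁻¹ * (a' : G)) b = b
          rw [map_mul, Equiv.Perm.mul_apply, map_inv, Equiv.Perm.inv_def, Equiv.symm_apply_eq]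
          exact h'.symm
    · rintro ⟨k, hk⟩
      simp only [hB, Finset.mem_filter, Finset.mem_univ, true_and] at hk
      obtain ⟨z, hz, rfl⟩ := hk
      exact ⟨((⟨z, hz⟩ : M) : M ⧸ H.subgroupOf M), rfl⟩
  have hdvd : H.relIndex M ∣ m := hidx ▸ Dvd.intro _ (Subgroup.relIndex_mul_relIndex H M K hHM hMK)
  -- the block is a union of classes
  set f : ℕ → Bool := fun c => decide (∃ k ∈ B, lab.get 20 (k : Fin n) = c) with hf
  have hfiber : ∀ c ∈ Finset.range sizes.length, (B.filter fun k => lab.get 20 (k : Fin n) = c).card =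
      if f c = true then sizes.getD c 0 else 0 := by
    intro c hc'
    have hc' := Finset.mem_range.mp hc'
    by_cases h : ∃ k ∈ B, lab.get 20 (k : Fin n) = c
    · rw [if_pos (decide_eq_true h), ← (hcl c hc').2.2, countLab_eq]
      obtain ⟨k, hk, hkc⟩ := h
      refine Finset.card_bij (fun j _ => (j : ℕ)) (fun j hj => ?_) (fun _ _ _ _ h => Fin.ext h) fun j hj => ?_
      · simp only [Finset.mem_filter] at hj ⊢
        exact ⟨Finset.mem_range.mpr j.2, hj.2⟩
      · simp only [Finset.mem_filter, Finset.mem_range] at hj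
        exact ⟨⟨j, hj.1⟩, Finset.mem_filter.mpr ⟨horb k ⟨j, hj.1⟩ (hkc.trans hj.2.symm) hk, hj.2⟩, rfl⟩
    · rw [if_neg (by simpa [hf] using h), Finset.card_eq_zero, Finset.filter_eq_empty_iff]
      exact fun k hk hkc => h ⟨k, hk, hkc⟩
  have hsum : B.card = ((List.range sizes.length).map fun c => if f c then sizes.getD c 0 else 0).sum := by
    rw [Finset.card_eq_sum_card_fiberwise (t := Finset.range sizes.length) (f := fun k : Fin n => lab.get 20 (k : ℕ))
      (fun k hk => Finset.mem_coe.mpr (Finset.mem_range.mpr (hBlab k hk))), Finset.sum_congr rfl hfiber]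
    rfl
  simp only [noBlocks, Bool.and_eq_true, List.all_eq_true, Bool.or_eq_true, Bool.not_eq_true'] at hblocks
  obtain ⟨h01, hblocks⟩ := hblocks
  have h01 := Nat.eq_of_beq_eq_true h01
  rcases hsz : sizes with _ | ⟨a, rest⟩
  · simp [hsz] at h01
  have h0B : f 0 = true := by
    rw [hf, decide_eq_true_iff]
    refine ⟨b, ?_, hb0⟩
    simp only [hB, Finset.mem_filter, Finset.mem_univ, true_and]
    exact ⟨1, M.one_mem, by simp⟩
  rw [hsz] at hsum h01 hblocks
  simp only [List.getD_cons_zero] at h01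
  rw [List.length_cons, List.range_succ_eq_map, List.map_cons, List.sum_cons, List.map_map, if_pos h0B] at hsum
  have hmem := mem_sums rest fun i => f (i + 1)
  have hmap : (List.range rest.length).map ((fun i => if f i then (a :: rest).getD i 0 else 0) ∘ Nat.succ) =
      (List.range rest.length).map fun i => if f (i + 1) then rest.getD i 0 else 0 :=
    List.map_congr_left fun i _ => by simp
  rw [hmap, List.getD_cons_zero, h01] at hsum
  generalize ((List.range rest.length).map fun i => if f (i + 1) then rest.getD i 0 else 0).sum = s at hsum hmem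
  rcases hblocks s (by simpa using hmem) with (hb | hb) | hb
  · exfalso
    have h0 : m % (1 + s) = 0 := Nat.mod_eq_zero_of_dvd (by rw [← hsum, hcard]; exact hdvd)
    simp [h0] at hb
  · left
    have hs : s = 0 := Nat.eq_of_beq_eq_true hb
    have h1 : H.relIndex M = 1 := by omega
    exact le_antisymm (Subgroup.relIndex_eq_one.mp h1) hHM
  · right
    have hb := Nat.eq_of_beq_eq_true hb
    have h1 : H.relIndex M * M.relIndex K = H.relIndex M * 1 := by
      rw [Subgroup.relIndex_mul_relIndex H M K hHM hMK, hidx, mul_one]; omega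
    exact le_antisymm hMK (Subgroup.relIndex_eq_one.mp (Nat.eq_of_mul_eq_mul_left (by omega) h1))


/-- The stabiliser of a point. -/
def stab (π : G →* Equiv.Perm (Fin n)) (p : Fin n) : Subgroup G :=
  (MulAction.stabilizer (Equiv.Perm (Fin n)) p).comap π

theorem mem_stab {π : G →* Equiv.Perm (Fin n)} {p : Fin n} {z : G} : z ∈ stab π p ↔ π z p = p := Iff.rfl

/-- The index of a point stabiliser is the length of the orbit. -/
theorem relIndex_stab (π : G →* Equiv.Perm (Fin n)) (K : Subgroup G) (p : Fin n) :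
    (K ⊓ stab π p).relIndex K = {k | ∃ w ∈ K, π w p = k}.ncard := by
  letI : MulAction K (Fin n) := MulAction.compHom (Fin n) (π.comp K.subtype)
  rw [Subgroup.inf_relIndex_left]
  have h1 : (stab π p).subgroupOf K = MulAction.stabilizer K p := by
    ext z
    rfl
  have h2 : MulAction.orbit K p = {k | ∃ w ∈ K, π w p = k} := by
    ext k
    exact ⟨fun ⟨w, hw⟩ => ⟨w, w.2, hw⟩, fun ⟨w, hw, e⟩ => ⟨⟨w, hw⟩, e⟩⟩
  show ((stab π p).subgroupOf K).index = _
  rw [h1, MulAction.index_stabilizer, h2]

/-- Maximality of a point stabiliser does not depend on the point of the orbit. -/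
theorem maximal_conj (π : G →* Equiv.Perm (Fin n)) (K : Subgroup G) (c : Fin n) {w : G} (hw : w ∈ K)
    (hmax : ∀ M : Subgroup G, K ⊓ stab π c ≤ M → M ≤ K → M = K ⊓ stab π c ∨ M = K) (M : Subgroup G)
    (hM : K ⊓ stab π (π w c) ≤ M) (hMK : M ≤ K) : M = K ⊓ stab π (π w c) ∨ M = K := by
  set φ := (MulAut.conj w).toMonoidHom with hφ
  have hmem : ∀ z, z ∈ K ⊓ stab π (π w c) ↔ w⁻¹ * z * w ∈ K ⊓ stab π c := by
    intro z
    simp only [Subgroup.mem_inf, mem_stab, map_mul, map_inv, Equiv.Perm.mul_apply, Equiv.Perm.inv_eq_iff_eq]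
    refine and_congr ⟨fun h => K.mul_mem (K.mul_mem (K.inv_mem hw) h) hw, fun h => ?_⟩ Iff.rfl
    simpa [mul_assoc] using K.mul_mem (K.mul_mem hw h) (K.inv_mem hw)
  have hc : ∀ z, φ z = w * z * w⁻¹ := fun z => rfl
  have h1 : K ⊓ stab π c ≤ M.comap φ := fun z hz => by
    rw [Subgroup.mem_comap, hc]
    refine hM ((hmem _).2 ?_)
    simpa [mul_assoc] using hz
  have h2 : M.comap φ ≤ K := fun z hz => by
    rw [Subgroup.mem_comap, hc] at hz
    simpa [mul_assoc] using K.mul_mem (K.mul_mem (K.inv_mem hw) (hMK hz)) hw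
  rcases hmax (M.comap φ) h1 h2 with h | h
  · left
    refine le_antisymm (fun z hz => ?_) hM
    rw [hmem, ← h, Subgroup.mem_comap, hc]
    simpa [mul_assoc] using hz
  · right
    refine le_antisymm hMK fun z hz => ?_
    have hz' : w⁻¹ * z * w ∈ M.comap φ := h.symm ▸ K.mul_mem (K.mul_mem (K.inv_mem hw) hz) hw
    rw [Subgroup.mem_comap, hc] at hz'
    simpa [mul_assoc] using hz'

end CfsgLib.G2FourJTwo
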