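import Cfsg.Agent.Lib.G2FourJTwo.Data
import Cfsg.Agent.Lib.G2FourJTwo.Block
import Cfsg.Agent.Lib.Sporadic.J2Perm.Main
import Cfsg.Agent.Lib.Ico.Bridge

/-!
# The Hall–Janko group in `G₂(4)`: maximal, and extremely primitive on its cosets

`G₂(4)` is the point stabiliser `Suz.H` of the presented Suzuki group; `J₂` is the stabiliser of a point of its
suborbit of length 416.
-/

set_option autoImplicit false
set_option maxRecDepth 10000

namespace CfsgLib.G2FourJTwo

open CfsgLib.CosetEnum CfsgLib.Comp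

/-- The base point in the suborbit of length 416. -/
def basePt : Fin 1782 := 995

/-- The generating words. -/
def jWords : List (List ℕ) := [[0], [1], [2], [3], [4]]

/-- The columns of the generators. -/
noncomputable def jTable : List Tr := [Suz.col0, Suz.col1, Suz.col2, Suz.col3, Suz.col4]

theorem jComp : allFrom (fun k => compOK Suz.table jTable jWords k) 1782 0 = true := by decide +kernel

theorem jRows : allFrom (fun k => orbitRowOK jTable jLab jPar jRoot 1782 k) 1782 0 = true := by decide +kernel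

theorem uComp : allFrom (fun k => compOK Suz.table uTable uWords k) 1782 0 = true := by decide +kernel

theorem uRows : allFrom (fun k => orbitRowOK uTable uLab uPar uRoot 1782 k) 1782 0 = true := by decide +kernel

theorem vComp : allFrom (fun k => compOK Suz.table vTable vWords k) 1782 0 = true := by decide +kernel

theorem vRows : allFrom (fun k => orbitRowOK vTable vLab vPar vRoot 1782 k) 1782 0 = true := by decide +kernel

theorem of_allFrom {f : ℕ → Bool} (h : allFrom f 1782 0 = true) (k : ℕ) (hk : k < 1782) : f k = true :=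
  allFrom_spec _ _ _ h k (Nat.zero_le _) (by omega)

/-- The subgroup generated by the first five letters. -/
def J : Subgroup Cfsg.Spor.Suz := WordSub Suz.g jWords

theorem wordSub_data (ws : List (List ℕ)) (hl : (ws.all fun l => l.all fun x => decide (x < 16)) = true)
    (T : List Tr) (hlen : ws.length = T.length) (hcomp : allFrom (fun k => compOK Suz.table T ws k) 1782 0 = true) :
    Realised Suz.π (WordSub Suz.g ws) T ∧ Generated Suz.π (WordSub Suz.g ws) T :=
  wordSub_spec Suz.π Suz.g Suz.hinv Suz.ip_ok Suz.row_ok Suz.hπ ws hl T hlen (of_allFrom hcomp)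

theorem J_spec : Realised Suz.π J jTable ∧ Generated Suz.π J jTable :=
  wordSub_data jWords (by decide +kernel) jTable rfl jComp

theorem J_le_H : J ≤ Suz.H := by
  refine (Subgroup.closure_le _).2 ?_
  rintro _ ⟨l, hl, rfl⟩
  exact Subgroup.subset_closure ⟨l, (show ∀ l ∈ jWords, l ∈ Suz.subWords by decide) l hl, rfl⟩

theorem jLab_invariant {z : Cfsg.Spor.Suz} (hz : z ∈ J) (k : Fin 1782) :
    jLab.get 20 (Suz.π z k : Fin 1782) = jLab.get 20 k :=
  label_invariant Suz.π J jTable J_spec.2 jLab jPar jRoot (of_allFrom jRows) z hz k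

theorem jLab_zero : allFrom (fun k => !(Nat.beq (jLab.get 20 k) 0) || Nat.beq k 995) 1782 0 = true := by
  decide +kernel

theorem jLab_base : Nat.beq (jLab.get 20 995) 0 = true := by decide +kernel

theorem J_fix {z : Cfsg.Spor.Suz} (hz : z ∈ J) : Suz.π z basePt = basePt := by
  have h := jLab_invariant hz basePt
  rw [show ((basePt : Fin 1782) : ℕ) = 995 from rfl, Nat.eq_of_beq_eq_true jLab_base] at h
  have h' := of_allFrom jLab_zero _ (Suz.π z basePt).2
  rw [h] at h'
  exact Fin.ext (by simpa [basePt] using h')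

/-- The stabiliser of the base point in `G₂(4)`. -/
noncomputable def K : Subgroup Cfsg.Spor.Suz := Suz.H ⊓ stab Suz.π basePt

theorem J_le_K : J ≤ K := le_inf J_le_H fun _ hz => mem_stab.2 (J_fix hz)

theorem orbit416_checks : (Nat.beq (Suz.lab.get 20 995) 2 && Nat.beq (Suz.root.get 20 2) 47 &&
    Nat.beq (Suz.lab.get 20 47) 2 && Nat.beq (countLab Suz.lab 2 1782) 416) = true := by
  decide +kernel

theorem H_orbit : {k | ∃ w ∈ Suz.H, Suz.π w basePt = k} = {k : Fin 1782 | Suz.lab.get 20 k = 2} ∧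
    {k : Fin 1782 | Suz.lab.get 20 k = 2}.ncard = 416 := by
  have h := orbit416_checks
  simp only [Bool.and_eq_true] at h
  have h1 := orbit_class Suz.π Suz.H Suz.subTable Suz.sub_spec.1 Suz.sub_spec.2 Suz.lab Suz.orbPar Suz.root
    Suz.orbit_ok (47 : Fin 1782) 2 h.1.2 h.1.1.2
  have h2 := orbit_class_ncard Suz.π Suz.H Suz.subTable Suz.sub_spec.1 Suz.sub_spec.2 Suz.lab Suz.orbPar Suz.root
    Suz.orbit_ok (47 : Fin 1782) 2 h.1.2 h.1.1.2 416 h.2
  rw [h1] at h2
  refine ⟨?_, h2⟩
  obtain ⟨w, hw, hwb⟩ : basePt ∈ {k | ∃ w ∈ Suz.H, Suz.π w (47 : Fin 1782) = k} := by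
    rw [h1]
    exact Nat.eq_of_beq_eq_true h.1.1.1
  rw [← h1]
  ext k
  constructor
  · rintro ⟨x, hx, rfl⟩
    exact ⟨x * w, Suz.H.mul_mem hx hw, by rw [map_mul, Equiv.Perm.mul_apply, hwb]⟩
  · rintro ⟨x, hx, rfl⟩
    refine ⟨x * w⁻¹, Suz.H.mul_mem hx (Suz.H.inv_mem hw), ?_⟩
    rw [map_mul, Equiv.Perm.mul_apply, map_inv, Equiv.Perm.inv_def, (Equiv.symm_apply_eq _).2 hwb.symm]

theorem relIndex_K : K.relIndex Suz.H = 416 := by
  rw [K, relIndex_stab, H_orbit.1, H_orbit.2]

theorem finite_suz : Finite Cfsg.Spor.Suz := Suz.finite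

theorem card_K : Nat.card K = 604800 := by
  have : Finite Cfsg.Spor.Suz := finite_suz
  have h := Subgroup.card_mul_index (K.subgroupOf Suz.H)
  rw [show (K.subgroupOf Suz.H).index = 416 from relIndex_K, Suz.card_H,
    Nat.card_congr (Subgroup.subgroupOfEquivOfLe (show K ≤ Suz.H from inf_le_left)).toEquiv] at h
  omega

/-! ### The action on the suborbit of length 100 -/

theorem pos_lt (k : ℕ) : posTr.get 8 k % 100 < 100 := Nat.mod_lt _ (by norm_num)

theorem emb_check : allFrom (fun i => Nat.blt (embTr.get 12 i) 1782 &&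
    Nat.beq (posTr.get 8 (embTr.get 12 i) % 100) i && Nat.beq (jLab.get 20 (embTr.get 12 i)) 1) 100 0 = true := by
  decide +kernel

theorem onto_check : allFrom (fun k => !(Nat.beq (jLab.get 20 k) 1) ||
    Nat.beq (embTr.get 12 (posTr.get 8 k % 100)) k) 1782 0 = true := by
  decide +kernel

theorem emb_spec (i : Fin 100) : embTr.get 12 i < 1782 ∧ posTr.get 8 (embTr.get 12 i) % 100 = i ∧
    jLab.get 20 (embTr.get 12 i) = 1 := by
  have h := allFrom_spec _ _ _ emb_check i (Nat.zero_le _) (by omega)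
  simp only [Bool.and_eq_true] at h
  exact ⟨Nat.le_of_ble_eq_true h.1.1, Nat.eq_of_beq_eq_true h.1.2, Nat.eq_of_beq_eq_true h.2⟩

/-- The points of the suborbit. -/
noncomputable def emb (i : Fin 100) : Fin 1782 := ⟨embTr.get 12 i, (emb_spec i).1⟩

/-- The number of a point in the suborbit. -/
noncomputable def pos (k : Fin 1782) : Fin 100 := ⟨posTr.get 8 k % 100, pos_lt k⟩

theorem pos_emb (i : Fin 100) : pos (emb i) = i := Fin.ext (emb_spec i).2.1

theorem emb_pos {k : Fin 1782} (h : jLab.get 20 k = 1) : emb (pos k) = k := by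
  have hk := of_allFrom onto_check k k.2
  rw [h] at hk
  exact Fin.ext (by simpa [emb, pos] using hk)

theorem emb_act {z : Cfsg.Spor.Suz} (hz : z ∈ J) (i : Fin 100) :
    emb (pos (Suz.π z (emb i))) = Suz.π z (emb i) :=
  emb_pos ((jLab_invariant hz _).trans (emb_spec i).2.2)

/-- The action on the suborbit as a function. -/
noncomputable def actMap (z : J) (i : Fin 100) : Fin 100 := pos (Suz.π (z : Cfsg.Spor.Suz) (emb i))

theorem actMap_one (i : Fin 100) : actMap 1 i = i := by
  simp [actMap, pos_emb]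

theorem actMap_mul (y z : J) (i : Fin 100) : actMap (y * z) i = actMap y (actMap z i) := by
  simp only [actMap]
  rw [emb_act z.2 i, Subgroup.coe_mul, map_mul, Equiv.Perm.mul_apply]

/-- The action on the suborbit. -/
noncomputable def ψ : J →* Equiv.Perm (Fin 100) where
  toFun z :=
    { toFun := actMap z
      invFun := actMap z⁻¹
      left_inv := fun i => by rw [← actMap_mul, inv_mul_cancel, actMap_one]
      right_inv := fun i => by rw [← actMap_mul, mul_inv_cancel, actMap_one] }
  map_one' := Equiv.ext actMap_one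
  map_mul' y z := Equiv.ext (actMap_mul y z)

theorem gen_check : (genWords.all (fun w => w.all fun x => Nat.blt x jTable.length) &&
    (List.range 2).all (fun j => PermCode.okb 100 (J2Perm.j2Gens.getD j 0) && PermCode.allLt 100 fun i =>
      Nat.beq (posTr.get 8 (scan jTable (genWords.getD j []) (embTr.get 12 i)) % 100)
        (PermCode.get (J2Perm.j2Gens.getD j 0) i))) = true := by
  decide +kernel

theorem J2sub_le_range : J2Perm.J2sub ≤ ψ.range := by
  have h := gen_check
  simp only [Bool.and_eq_true, List.all_eq_true, List.mem_range, Nat.blt_eq] at h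
  refine (Subgroup.closure_le _).2 ?_
  rintro _ ⟨s, hs, rfl⟩
  obtain ⟨j, hj, rfl⟩ := List.getElem_of_mem hs
  have hj2 : j < 2 := hj
  have hg : j < genWords.length := hj2
  obtain ⟨hok, hall⟩ := h.2 j hj2
  rw [List.getD_eq_getElem _ _ hj] at hok hall
  rw [List.getD_eq_getElem _ _ hg] at hall
  obtain ⟨z, hz, hzk⟩ := realised_scan Suz.π J_spec.1 genWords[j] (h.1 _ (List.getElem_mem hg))
  refine ⟨⟨z, hz⟩, Equiv.ext fun i => Fin.ext ?_⟩
  rw [PermCode.val_apply (PermCode.ok_of_okb hok), ← Nat.eq_of_beq_eq_true (PermCode.allLt_spec hall i i.2)]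
  show posTr.get 8 (Suz.π z (emb i) : Fin 1782) % 100 = _
  rw [hzk]
  rfl

theorem J_eq_K : J = K ∧ Nonempty (J ≃* J2Perm.J2sub) := by
  have : Finite Cfsg.Spor.Suz := finite_suz
  have h1 : Nat.card J ≤ 604800 := (Subgroup.card_le_of_le J_le_K).trans card_K.le
  have h2 : 604800 ≤ Nat.card ψ.range := J2Perm.card_J2sub ▸ Subgroup.card_le_of_le J2sub_le_range
  have h3 : Nat.card ψ.range ≤ Nat.card J := Nat.card_le_card_of_surjective _ ψ.rangeRestrict_surjective
  have hb := (Nat.bijective_iff_surjective_and_card ψ.rangeRestrict).2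
    ⟨ψ.rangeRestrict_surjective, by omega⟩
  refine ⟨Subgroup.eq_of_le_of_card_ge J_le_K (by rw [card_K]; omega), ⟨(MulEquiv.ofBijective _ hb).trans
    (MulEquiv.subgroupCongr (Subgroup.eq_of_le_of_card_ge J2sub_le_range ?_).symm)⟩⟩
  rw [J2Perm.card_J2sub]
  omega

theorem iso_J2 : Cfsg.Spor.IsoJ2 K := by
  obtain ⟨hJK, ⟨e⟩⟩ := J_eq_K
  exact ⟨((MulEquiv.subgroupCongr hJK.symm).trans e).trans Ico.bridge.symm⟩

/-! ### Maximality -/

theorem classes_checks : (classesOK jLab jRoot 1782 [1, 100, 315] && noBlocks [1, 100, 315] 416 &&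
    allFrom (fun k => !(Nat.beq (Suz.lab.get 20 k) 2) || Nat.blt (jLab.get 20 k) 3) 1782 0) = true := by
  decide +kernel

theorem K_maximal (M : Subgroup Cfsg.Spor.Suz) (hM : K ≤ M) (hMH : M ≤ Suz.H) : M = K ∨ M = Suz.H := by
  have h := classes_checks
  simp only [Bool.and_eq_true] at h
  refine eq_or_of_le_sub Suz.π Suz.H K J M J_le_K hM hMH basePt (fun z hz => mem_stab.1 hz.2)
    (fun z hz hzb => ⟨hz, mem_stab.2 hzb⟩) 416 relIndex_K jTable J_spec.1 J_spec.2 jLab jPar jRoot
    (of_allFrom jRows) [1, 100, 315] (Nat.eq_of_beq_eq_true jLab_base) (fun z hz => ?_) h.1.1 h.1.2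
  have hl : Suz.lab.get 20 (Suz.π z basePt : Fin 1782) = 2 := (Set.ext_iff.1 H_orbit.1 _).1 ⟨z, hz, rfl⟩
  have hk := of_allFrom h.2 _ (Suz.π z basePt).2
  rw [hl] at hk
  exact Nat.le_of_ble_eq_true (by simpa using hk)

/-- Maximality in `K` of the stabiliser of a point, from certified orbits of part of it. -/
theorem stab_maximal (c : Fin 1782) (cls m : ℕ) (ws : List (List ℕ)) (T : List Tr) (lab par root : Tr)
    (sizes : List ℕ) (hws : (ws.all fun l => l.all fun x => decide (x < 5)) = true) (hlen : ws.length = T.length)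
    (hcomp : allFrom (fun k => compOK Suz.table T ws k) 1782 0 = true)
    (hrows : allFrom (fun k => orbitRowOK T lab par root 1782 k) 1782 0 = true)
    (hzero : allFrom (fun k => !(Nat.beq (lab.get 20 k) 0) || Nat.beq k c) 1782 0 = true)
    (hbase : Nat.beq (lab.get 20 c) 0 = true) (hcls : Nat.beq (jLab.get 20 c) cls = true)
    (hroot : Nat.beq (jRoot.get 20 cls) c = true) (hcount : Nat.beq (countLab jLab cls 1782) m = true)
    (hin : allFrom (fun k => !(Nat.beq (jLab.get 20 k) cls) || Nat.blt (lab.get 20 k) sizes.length) 1782 0 = true)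
    (hclasses : classesOK lab root 1782 sizes = true) (hblocks : noBlocks sizes m = true)
    (M : Subgroup Cfsg.Spor.Suz) (hM : K ⊓ stab Suz.π c ≤ M) (hMK : M ≤ K) :
    M = K ⊓ stab Suz.π c ∨ M = K := by
  have hJK := J_eq_K.1
  have hw16 : (ws.all fun l => l.all fun x => decide (x < 16)) = true := by
    simp only [List.all_eq_true, decide_eq_true_eq] at hws ⊢
    exact fun l hl x hx => (hws l hl x hx).trans (by norm_num)
  obtain ⟨hT, hgen⟩ := wordSub_data ws hw16 T hlen hcomp
  have h₀ : WordSub Suz.g ws ≤ K ⊓ stab Suz.π c := by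
    refine le_inf ?_ fun z hz => mem_stab.2 ?_
    · rw [← hJK, WordSub, Subgroup.closure_le]
      rintro _ ⟨l, hl, rfl⟩
      refine list_prod_mem fun y hy => ?_
      obtain ⟨x, hx, rfl⟩ := List.mem_map.1 hy
      simp only [List.all_eq_true, decide_eq_true_eq] at hws
      refine Subgroup.subset_closure ⟨[x], ?_, by simp⟩
      exact (show ∀ x < 5, [x] ∈ jWords by decide) x (hws l hl x hx)
    · have h := label_invariant Suz.π _ T hgen lab par root (of_allFrom hrows) z hz c
      rw [Nat.eq_of_beq_eq_true hbase] at h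
      have h' := of_allFrom hzero _ (Suz.π z c).2
      rw [h] at h'
      exact Fin.ext (Nat.eq_of_beq_eq_true (by simpa using h'))
  have horb := orbit_class Suz.π J jTable J_spec.1 J_spec.2 jLab jPar jRoot (of_allFrom jRows) c cls hcls hroot
  have hnum := orbit_class_ncard Suz.π J jTable J_spec.1 J_spec.2 jLab jPar jRoot (of_allFrom jRows) c cls hcls
    hroot m hcount
  rw [hJK] at horb hnum
  refine eq_or_of_le_sub Suz.π K (K ⊓ stab Suz.π c) (WordSub Suz.g ws) M h₀ hM hMK c
    (fun z hz => mem_stab.1 hz.2) (fun z hz hzb => ⟨hz, mem_stab.2 hzb⟩) m ((relIndex_stab _ _ _).trans hnum)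
    T hT hgen lab par root (of_allFrom hrows) sizes (Nat.eq_of_beq_eq_true hbase) (fun z hz => ?_) hclasses hblocks
  have hl : jLab.get 20 (Suz.π z c : Fin 1782) = cls := (Set.ext_iff.1 horb _).1 ⟨z, hz, rfl⟩
  have hk := of_allFrom hin _ (Suz.π z c).2
  rw [hl] at hk
  exact Nat.le_of_ble_eq_true (by simpa using hk)

theorem u_maximal (M : Subgroup Cfsg.Spor.Suz) (hM : K ⊓ stab Suz.π uPt ≤ M) (hMK : M ≤ K) :
    M = K ⊓ stab Suz.π uPt ∨ M = K :=
  stab_maximal uPt 1 100 uWords uTable uLab uPar uRoot [1, 36, 63] (by decide +kernel) rfl uComp uRows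
    (by decide +kernel) (by decide +kernel) (by decide +kernel) (by decide +kernel) (by decide +kernel)
    (by decide +kernel) (by decide +kernel) (by decide +kernel) M hM hMK

theorem v_maximal (M : Subgroup Cfsg.Spor.Suz) (hM : K ⊓ stab Suz.π vPt ≤ M) (hMK : M ≤ K) :
    M = K ⊓ stab Suz.π vPt ∨ M = K :=
  stab_maximal vPt 2 315 vWords vTable vLab vPar vRoot [1, 10, 32, 32, 80, 160] (by decide +kernel) rfl vComp
    vRows (by decide +kernel) (by decide +kernel) (by decide +kernel) (by decide +kernel) (by decide +kernel)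
    (by decide +kernel) (by decide +kernel) (by decide +kernel) M hM hMK

theorem K_ne_H : K ≠ Suz.H := fun h => by
  have := relIndex_K
  rw [h, Subgroup.relIndex_self] at this
  omega

theorem stab_ne_K (y : Fin 1782) (cls m : ℕ) (hm : 1 < m) (hcls : Nat.beq (jLab.get 20 y) cls = true)
    (hroot : Nat.beq (jRoot.get 20 cls) y = true) (hcount : Nat.beq (countLab jLab cls 1782) m = true) :
    K ⊓ stab Suz.π y ≠ K := fun h => by
  have hnum := orbit_class_ncard Suz.π J jTable J_spec.1 J_spec.2 jLab jPar jRoot (of_allFrom jRows) y cls hcls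
    hroot m hcount
  rw [J_eq_K.1] at hnum
  have := (relIndex_stab Suz.π K y).trans hnum
  rw [h, Subgroup.relIndex_self] at this
  omega

/-- The statement inside the point stabiliser. -/
theorem extremely_primitive :
    ∃ H : Subgroup Suz.H, IsCoatom H ∧ Cfsg.Spor.IsoJ2 H ∧
      ∀ x : Suz.H, x ∉ H → IsCoatom ((H ⊓ H.map (MulAut.conj x).toMonoidHom).subgroupOf H) := by
  have hKH : K ≤ Suz.H := inf_le_left
  have hmap : (K.subgroupOf Suz.H).map Suz.H.subtype = K := Subgroup.map_subgroupOf_eq_of_le hKH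
  refine ⟨K.subgroupOf Suz.H, ⟨fun h => K_ne_H (le_antisymm hKH (Subgroup.subgroupOf_eq_top.1 h)),
    fun M hM => ?_⟩, ?_, fun x hx => ?_⟩
  · rcases K_maximal (M.map Suz.H.subtype) (hmap ▸ Subgroup.map_mono hM.le) (Subgroup.map_subtype_le M) with h | h
    · exfalso
      rw [← hmap] at h
      exact hM.ne (Subgroup.map_injective Suz.H.subtype_injective h).symm
    · refine Subgroup.map_injective Suz.H.subtype_injective (h.trans ?_)
      rw [← MonoidHom.range_eq_map, Subgroup.range_subtype]
  · obtain ⟨e⟩ := iso_J2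
    exact ⟨(Subgroup.subgroupOfEquivOfLe hKH).trans e⟩
  · set y := Suz.π (x : Cfsg.Spor.Suz) basePt with hy
    have hne : y ≠ basePt := fun h => hx (Subgroup.mem_subgroupOf.2 ⟨x.2, mem_stab.2 h⟩)
    have hl : Suz.lab.get 20 y = 2 := (Set.ext_iff.1 H_orbit.1 _).1 ⟨x, x.2, rfl⟩
    have hcl := classes_checks
    simp only [Bool.and_eq_true] at hcl
    have hlt : jLab.get 20 y < 3 := by
      have hk := of_allFrom hcl.2 _ y.2
      rw [hl] at hk
      exact Nat.le_of_ble_eq_true (by simpa using hk)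
    have hy0 : jLab.get 20 y ≠ 0 := fun h => by
      have h' := of_allFrom jLab_zero _ y.2
      rw [h] at h'
      exact hne (Fin.ext (by simpa [basePt] using h'))
    have hkey : (∀ M : Subgroup Cfsg.Spor.Suz, K ⊓ stab Suz.π y ≤ M → M ≤ K → M = K ⊓ stab Suz.π y ∨ M = K) ∧
        K ⊓ stab Suz.π y ≠ K := by
      suffices h : ∀ c cls m, jLab.get 20 y = cls → Nat.beq (jLab.get 20 (c : Fin 1782)) cls = true →
          Nat.beq (jRoot.get 20 cls) c = true → Nat.beq (countLab jLab cls 1782) m = true → 1 < m →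
          (∀ M : Subgroup Cfsg.Spor.Suz, K ⊓ stab Suz.π c ≤ M → M ≤ K → M = K ⊓ stab Suz.π c ∨ M = K) →
          (∀ M : Subgroup Cfsg.Spor.Suz, K ⊓ stab Suz.π y ≤ M → M ≤ K → M = K ⊓ stab Suz.π y ∨ M = K) ∧
            K ⊓ stab Suz.π y ≠ K by
        rcases (show jLab.get 20 y = 1 ∨ jLab.get 20 y = 2 by omega) with e | e
        · exact h uPt 1 100 e (by decide +kernel) (by decide +kernel) (by decide +kernel) (by norm_num) u_maximal
        · exact h vPt 2 315 e (by decide +kernel) (by decide +kernel) (by decide +kernel) (by norm_num) v_maximal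
      intro c cls m e h1 h2 h3 hm hmax
      obtain ⟨w, hw, hwy⟩ := (Set.ext_iff.1 (orbit_class Suz.π J jTable J_spec.1 J_spec.2 jLab jPar jRoot
        (of_allFrom jRows) c cls h1 h2) y).2 e
      have hwK : w ∈ K := J_le_K hw
      refine ⟨fun M hM hMK => hwy ▸ maximal_conj Suz.π K c hwK hmax M (hwy.symm ▸ hM) hMK, fun h => ?_⟩
      refine stab_ne_K c cls m hm h1 h2 h3 (le_antisymm inf_le_left fun z hz => ⟨hz, mem_stab.2 ?_⟩)
      have hz' : w * z * w⁻¹ ∈ K ⊓ stab Suz.π y :=
        h.symm ▸ K.mul_mem (K.mul_mem hwK hz) (K.inv_mem hwK)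
      have h4 := mem_stab.1 hz'.2
      rw [map_mul, map_mul, map_inv, Equiv.Perm.mul_apply, Equiv.Perm.mul_apply, ← hwy, Equiv.Perm.inv_def,
        Equiv.symm_apply_apply] at h4
      exact (Suz.π w).injective h4
    -- the intersection is the stabiliser of `y`
    have hI : ((K.subgroupOf Suz.H ⊓ (K.subgroupOf Suz.H).map (MulAut.conj x).toMonoidHom).map Suz.H.subtype) =
        K ⊓ stab Suz.π y := by
      ext z
      simp only [Subgroup.mem_map, Subgroup.mem_inf, Subgroup.mem_subgroupOf]
      constructor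
      · rintro ⟨a, ⟨ha, b, hb, rfl⟩, rfl⟩
        refine ⟨ha, mem_stab.2 ?_⟩
        have hbb : Suz.π (b : Cfsg.Spor.Suz) basePt = basePt := mem_stab.1 hb.2
        simp only [MulEquiv.coe_toMonoidHom, MulAut.conj_apply, Subgroup.coe_subtype, Subgroup.coe_mul,
          Subgroup.coe_inv, map_mul, map_inv, Equiv.Perm.mul_apply, hy, Equiv.Perm.inv_def,
          Equiv.symm_apply_apply, hbb]
      · rintro ⟨hzK, hzy⟩
        refine ⟨⟨z, hKH hzK⟩, ⟨hzK, x⁻¹ * ⟨z, hKH hzK⟩ * x, ⟨?_, mem_stab.2 ?_⟩, ?_⟩, rfl⟩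
        · exact (x⁻¹ * ⟨z, hKH hzK⟩ * x).2
        · have h4 := mem_stab.1 hzy
          simp only [hy] at h4
          simp only [Subgroup.coe_mul, Subgroup.coe_inv, map_mul, map_inv, Equiv.Perm.mul_apply,
            Equiv.Perm.inv_def, h4, Equiv.symm_apply_apply]
        · simp only [MulEquiv.coe_toMonoidHom, MulAut.conj_apply]
          group
    set A := K.subgroupOf Suz.H with hA
    set I := A ⊓ A.map (MulAut.conj x).toMonoidHom with hI'
    have hinj : Function.Injective (Suz.H.subtype.comp A.subtype) :=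
      Suz.H.subtype_injective.comp A.subtype_injective
    have hIA : I ≤ A := inf_le_left
    have hIK : (I.subgroupOf A).map (Suz.H.subtype.comp A.subtype) = K ⊓ stab Suz.π y := by
      rw [← Subgroup.map_map, Subgroup.map_subgroupOf_eq_of_le hIA, hI]
    have htop : (⊤ : Subgroup A).map (Suz.H.subtype.comp A.subtype) = K := by
      rw [← Subgroup.map_map, ← MonoidHom.range_eq_map, Subgroup.range_subtype, hmap]
    refine ⟨fun h => hkey.2 (by rw [← hIK, h, htop]), fun M hM => ?_⟩
    rcases hkey.1 (M.map (Suz.H.subtype.comp A.subtype)) (hIK ▸ Subgroup.map_mono hM.le)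
      (htop ▸ Subgroup.map_mono le_top) with h | h
    · exact absurd (Subgroup.map_injective hinj (h.trans hIK.symm)).symm hM.ne
    · exact Subgroup.map_injective hinj (h.trans htop.symm)

end CfsgLib.G2FourJTwo
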